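import Groth.Agent.L16.HomogComp.Basic
import Groth.Prelude.Def_ActBC

/-!
Irreducible components of homogeneous spaces after an extension of the base field.
-/

set_option autoImplicit false
universe u

open CategoryTheory CategoryTheory.Limits MonoidalCategory CartesianMonoidalCategory MonObj GrpObj
open AlgebraicGeometry

set_option backward.isDefEq.respectTransparency.types false

namespace Groth.L16.HomogComp

open Groth.L22.GeomConn Groth.L25 Groth.L25.Homogeneous

variable {k : Type u} [Field k] {G X : Over (Spec (CommRingCat.of k))} [GrpObj G] (a : AlgGrp.Action G X)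

theorem surjective_bc (hΦ : Surjective (lift a.act (snd G X)).left) {S' : Scheme.{u}}
    (t : S' ⟶ Spec (CommRingCat.of k)) :
    Surjective (lift (a.bc t).act (snd (Red.bc t G) (Red.bc t X))).left := by
  have key : lift (a.bc t).act (snd _ _) ≫ Functor.LaxMonoidal.μ (Over.pullback t) X X =
      Functor.LaxMonoidal.μ (Over.pullback t) G X ≫ (Over.pullback t).map (lift a.act (snd G X)) := by
    rw [← Functor.Monoidal.lift_μ, comp_lift_assoc, Functor.Monoidal.μ_snd, AlgGrp.Action.bc_act]
  let φ := lift a.act (snd G X)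
  have sq : IsPullback ((Over.pullback t).map φ).left (pullback.fst (G ⊗ X).hom t) (pullback.fst (X ⊗ X).hom t)
      φ.left := by
    have h1 : IsPullback (pullback.fst (G ⊗ X).hom t) (pullback.snd (G ⊗ X).hom t) (φ.left ≫ (X ⊗ X).hom) t := by
      convert IsPullback.of_hasPullback (G ⊗ X).hom t using 2
      exact Over.w φ
    refine (IsPullback.of_bot ?_ ?_ (IsPullback.of_hasPullback (X ⊗ X).hom t)).flip
    · rw [show ((Over.pullback t).map φ).left ≫ pullback.snd (X ⊗ X).hom t = pullback.snd (G ⊗ X).hom t from
        pullback.lift_snd _ _ _]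
      exact h1
    · exact (pullback.lift_fst _ _ _).symm
  have hs : Surjective ((Over.pullback t).map φ).left := MorphismProperty.of_isPullback sq.flip hΦ
  have h1 : IsIso (Functor.LaxMonoidal.μ (Over.pullback t) X X).left :=
    inferInstanceAs (IsIso ((Over.forget _).map (Functor.LaxMonoidal.μ (Over.pullback t) X X)))
  have h2 : IsIso (Functor.LaxMonoidal.μ (Over.pullback t) G X).left :=
    inferInstanceAs (IsIso ((Over.forget _).map (Functor.LaxMonoidal.μ (Over.pullback t) G X)))
  have e : (lift (a.bc t).act (snd (Red.bc t G) (Red.bc t X))).left =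
      (Functor.LaxMonoidal.μ (Over.pullback t) G X).left ≫ ((Over.pullback t).map φ).left ≫
        inv (Functor.LaxMonoidal.μ (Over.pullback t) X X).left := by
    rw [← Category.assoc, IsIso.eq_comp_inv]
    exact congrArg (fun m => m.left) key
  rw [e]
  infer_instance

theorem existsUnique_component_bc (hΦ : Surjective (lift a.act (snd G X)).left) (K : Type u) [Field K]
    [Algebra k K] (z : ↥(pullback X.hom (Spec.map (CommRingCat.ofHom (algebraMap k K))))) :
    ∃! C, C ∈ irreducibleComponents ↥(pullback X.hom (Spec.map (CommRingCat.ofHom (algebraMap k K)))) ∧ z ∈ C := by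
  refine ⟨irreducibleComponent z, ⟨irreducibleComponent_mem_irreducibleComponents z, mem_irreducibleComponent⟩, ?_⟩
  rintro C ⟨hC, hz⟩
  let t : Spec (CommRingCat.of K) ⟶ Spec (CommRingCat.of k) := Spec.map (CommRingCat.ofHom (algebraMap k K))
  have hT := irreducibleComponent_mem_irreducibleComponents z
  have g1 := hC.1.isGenericPoint_genericPoint (isClosed_of_mem_irreducibleComponents _ hC)
  have g2 := hT.1.isGenericPoint_genericPoint (isClosed_of_mem_irreducibleComponents _ hT)
  have e := unique_gen (a.bc t) (surjective_bc a hΦ t) (isMaxPt_genericPoint _ hC) (isMaxPt_genericPoint _ hT)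
    (g1.specializes hz) (g2.specializes mem_irreducibleComponent)
  rw [← g1.def, ← g2.def]
  exact congrArg (fun p => closure {p}) e

include a in
theorem isIrreducible_preimage (hΦ : Surjective (lift a.act (snd G X)).left)
    (x : 𝟙_ (Over (Spec (CommRingCat.of k))) ⟶ X) (pt : ↥(𝟙_ (Over (Spec (CommRingCat.of k)))).left)
    {C : Set X.left} (hC : C ∈ irreducibleComponents ↥X.left) (hpC : x.left pt ∈ C)
    (K : Type u) [Field K] [Algebra k K] :
    IsIrreducible (pullback.fst X.hom (Spec.map (CommRingCat.ofHom (algebraMap k K))) ⁻¹' C) := by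
  let t : Spec (CommRingCat.of K) ⟶ Spec (CommRingCat.of k) := Spec.map (CommRingCat.ofHom (algebraMap k K))
  obtain ⟨C₀, hC₀, he'⟩ := exists_mem_irreducibleComponents_subset_of_isIrreducible
    {Component.one G} isIrreducible_singleton
  let I := Scheme.IdealSheafData.vanishingIdeal ⟨C₀, isClosed_of_mem_irreducibleComponents _ hC₀⟩
  have hr : Set.range I.subschemeι = C₀ := by
    simp [I, Scheme.IdealSheafData.range_subschemeι, Scheme.IdealSheafData.coe_support_vanishingIdeal]
  have hgi : GeometricallyIrreducible (I.subschemeι ≫ G.hom) :=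
    Component.geometricallyIrreducible_component G I.subschemeι (hr ▸ hC₀) (hr ▸ he' rfl)
  -- the orbit map
  let o : G ⟶ X := lift (𝟙 G) (toUnit G ≫ x) ≫ a.act
  let w := I.subschemeι ≫ o.left
  have hw : w ≫ X.hom = I.subschemeι ≫ G.hom := by rw [Category.assoc, Over.w]
  let π := pullback.fst X.hom t
  let wK : pullback (I.subschemeι ≫ G.hom) t ⟶ pullback X.hom t :=
    pullback.map _ _ _ _ w (𝟙 _) (𝟙 _) (by rw [Category.comp_id, hw]) ((Category.comp_id _).trans (Category.id_comp _).symm)
  have sq : IsPullback (pullback.fst (I.subschemeι ≫ G.hom) t) wK w π := by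
    refine IsPullback.of_bot ?_ (pullback.lift_fst _ _ _).symm (IsPullback.of_hasPullback X.hom t)
    rw [hw, show wK ≫ pullback.snd X.hom t = pullback.snd (I.subschemeι ≫ G.hom) t from
      (pullback.lift_snd _ _ _).trans (Category.comp_id _)]
    exact IsPullback.of_hasPullback _ _
  let q := pullback.snd (I.subschemeι ≫ G.hom) t
  have : GeometricallyIrreducible q := MorphismProperty.pullback_snd _ _ hgi
  have huo : UniversallyOpen q := MorphismProperty.pullback_snd _ _ inferInstance
  have huniv : IsIrreducible (Set.univ : Set ↥(pullback (I.subschemeι ≫ G.hom) t)) := by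
    obtain ⟨c⟩ : Nonempty ↥(Spec (CommRingCat.of K)) := inferInstanceAs (Nonempty (PrimeSpectrum K))
    have e : q ⁻¹' {c} = Set.univ :=
      Set.eq_univ_of_forall fun _ => Subsingleton.elim (α := PrimeSpectrum K) _ _
    exact e ▸ q.isIrreducible_preimage q.isOpenMap isIrreducible_singleton
  obtain ⟨W, hW, hsub⟩ := exists_mem_irreducibleComponents_subset_of_isIrreducible _
    (huniv.image wK wK.continuous.continuousOn)
  have gW := hW.1.isGenericPoint_genericPoint (isClosed_of_mem_irreducibleComponents _ hW)
  -- the generic point of `C` is in the orbit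
  have gC := hC.1.isGenericPoint_genericPoint (isClosed_of_mem_irreducibleComponents _ hC)
  obtain ⟨h, h1, h2, hm⟩ := exists_act_isMaxPt a hΦ hC₀ (he' rfl) (x.left pt)
  have hξ : hC.1.genericPoint = a.act.left h :=
    eq_act a hC₀ (he' rfl) (isMaxPt_genericPoint _ hC) (gC.specializes hpC) h1 h2 hm
  obtain ⟨z', hz1, hz2⟩ := Scheme.Pullback.exists_preimage_pullback h pt h2
  let g' := (isPullback_whiskerLeft G x).isoPullback.inv z'
  have hg' : (G ◁ x).left g' = h := by
    show (G ◁ x).left ((isPullback_whiskerLeft G x).isoPullback.inv z') = h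
    rw [← Scheme.Hom.comp_apply, (isPullback_whiskerLeft G x).isoPullback_inv_fst]
    exact hz1
  have eo : fst G (𝟙_ _) ≫ o = (G ◁ x) ≫ a.act := by
    show fst G (𝟙_ _) ≫ lift (𝟙 G) (toUnit G ≫ x) ≫ a.act = _
    rw [← Category.assoc]
    congr 1
    apply CartesianMonoidalCategory.hom_ext
    · simp
    · simp only [Category.assoc, lift_snd, whiskerLeft_snd]
      rw [← Category.assoc, toUnit_unique (fst G (𝟙_ _) ≫ toUnit G) (snd G (𝟙_ _))]
  have efst : (fst G (𝟙_ _)).left g' = (fst G X).left h := by
    have := congrArg (fun m => m.left g') (whiskerLeft_fst G x)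
    simp only [Over.comp_left, Scheme.Hom.comp_apply] at this
    rw [hg'] at this
    exact this.symm
  obtain ⟨z₀, hz₀⟩ := hr.ge (efst.symm ▸ h1)
  have hwz₀ : w z₀ = hC.1.genericPoint := by
    show (I.subschemeι ≫ o.left) z₀ = _
    rw [Scheme.Hom.comp_apply, hz₀, ← Scheme.Hom.comp_apply, ← Over.comp_left, eo, Over.comp_left,
      Scheme.Hom.comp_apply, hg', hξ]
  have hft : Flat t := flat_toSpecField _
  have hfπ : Flat π := MorphismProperty.pullback_fst X.hom t hft
  have hall : ∀ y : ↥(pullback X.hom t), π y ∈ C → hW.1.genericPoint ⤳ y := fun y hy => by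
    obtain ⟨η', hη, hηy⟩ := exists_isMaxPt_specializes y
    have e : π η' = w z₀ :=
      (unique_gen a hΦ (hη.map π) (isMaxPt_genericPoint _ hC) (hηy.map π.continuous) (gC.specializes hy)).trans hwz₀.symm
    obtain ⟨zz, -, hzz2⟩ := Scheme.Pullback.exists_preimage_pullback z₀ η' e.symm
    have hmem : η' ∈ W := hsub ⟨sq.isoPullback.inv zz, trivial, by
      rw [← Scheme.Hom.comp_apply, sq.isoPullback_inv_snd]; exact hzz2⟩
    rw [hη _ (gW.specializes hmem)]
    exact hηy
  have : Surjective π := by
    have : Surjective t := ⟨fun s =>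
      ⟨Classical.arbitrary (PrimeSpectrum K), Subsingleton.elim (α := PrimeSpectrum k) _ _⟩⟩
    exact MorphismProperty.pullback_fst X.hom t this
  obtain ⟨y₀, hy₀⟩ := π.surjective hC.1.genericPoint
  have hy₀C : π y₀ ∈ C := hy₀ ▸ gC.mem
  have hgC : π hW.1.genericPoint ∈ C := by
    have h3 : π hW.1.genericPoint ⤳ hC.1.genericPoint := hy₀ ▸ (hall y₀ hy₀C).map π.continuous
    rw [isMaxPt_genericPoint _ hC _ h3]
    exact gC.mem
  have e : π ⁻¹' C = closure {hW.1.genericPoint} := subset_antisymm (fun y hy => (hall y hy).mem_closure)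
    (closure_minimal (Set.singleton_subset_iff.2 hgC)
      ((isClosed_of_mem_irreducibleComponents _ hC).preimage π.continuous))
  exact e ▸ isIrreducible_singleton.closure

end Groth.L16.HomogComp
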