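import Groth.Agent.L25.Homogeneous
import Groth.Agent.L19.Closure

/-!
Connected components of a homogeneous space over a field are irreducible.
-/

set_option autoImplicit false
universe u

open CategoryTheory CategoryTheory.Limits MonoidalCategory CartesianMonoidalCategory MonObj GrpObj
open AlgebraicGeometry

set_option backward.isDefEq.respectTransparency.types false

namespace Groth.L16.HomogComp

open Groth.L22.GeomConn Groth.L25 Groth.L25.Homogeneous

variable {k : Type u} [Field k] {G X : Over (Spec (CommRingCat.of k))} [GrpObj G] (a : AlgGrp.Action G X)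

/-- Every point is carried to a maximal point by the identity component. -/
theorem exists_act_isMaxPt (hΦ : Surjective (lift a.act (snd G X)).left) {C₀ : Set G.left}
    (hC₀ : C₀ ∈ irreducibleComponents ↥G.left) (he : Component.one G ∈ C₀) (p : X.left) :
    ∃ h : (G ⊗ X).left, (fst G X).left h ∈ C₀ ∧ (snd G X).left h = p ∧ IsMaxPt (a.act.left h) := by
  have heC₀ : ({Component.one G} : Set G.left) ⊆ C₀ := Set.singleton_subset_iff.2 he
  -- the point, rationally over an algebraically closed field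
  let K₁ := AlgebraicClosure (X.left.residueField p)
  let i₁ : Spec (CommRingCat.of K₁) ⟶ X.left :=
    Spec.map (CommRingCat.ofHom (algebraMap (X.left.residueField p) K₁)) ≫ X.left.fromSpecResidueField p
  let T₁ : Over (Spec (CommRingCat.of k)) := Over.mk (i₁ ≫ X.hom)
  let x : T₁ ⟶ X := Over.homMk i₁ rfl
  have hx : ∀ z : T₁.left, x.left z = p := fun z => by
    change i₁ z = p
    rw [Scheme.Hom.comp_apply]; exact Scheme.fromSpecResidueField_apply _ _
  have : Surjective (orb a x).left := MorphismProperty.of_isPullback (isPullback_orb a x) hΦ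
  obtain ⟨t₁⟩ : Nonempty (PrimeSpectrum K₁) := inferInstance
  have : Nonempty (X ⊗ T₁).left := by
    obtain ⟨z, -, -⟩ := Scheme.Pullback.exists_preimage_pullback (f := X.hom) (g := T₁.hom) p t₁
      (Subsingleton.elim (α := PrimeSpectrum k) _ _)
    exact ⟨z⟩
  obtain ⟨η₁, hη₁, -⟩ := exists_isMaxPt_specializes (Classical.arbitrary (X ⊗ T₁).left)
  obtain ⟨q, hq⟩ := (orb a x).left.surjective η₁
  -- the residue field of `q`
  let T₂ : Over (Spec (CommRingCat.of k)) := Over.mk ((G ⊗ T₁).left.fromSpecResidueField q ≫ (G ⊗ T₁).hom)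
  let qq : T₂ ⟶ G ⊗ T₁ := Over.homMk ((G ⊗ T₁).left.fromSpecResidueField q) rfl
  let s : T₂ ⟶ T₁ := qq ≫ snd G T₁
  let c : T₂ ⟶ G := qq ≫ fst G T₁
  obtain ⟨θ, hθ⟩ := Spec.map_surjective
    (s.left : Spec ((G ⊗ T₁).left.residueField q) ⟶ Spec (CommRingCat.of K₁))
  letI : Algebra K₁ ((G ⊗ T₁).left.residueField q) := θ.hom.toAlgebra
  have hflat : Flat s.left := by
    rw [show s.left = Spec.map θ from hθ.symm]
    refine (HasRingHomProperty.Spec_iff (P := @Flat)).2 ?_
    exact RingHom.flat_algebraMap_iff.2 inferInstance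
  have hgi : GeometricallyIrreducible (G ◁ s).left := by
    refine MorphismProperty.of_isPullback (isPullback_whiskerLeft G s).flip ?_
    rw [show s.left = Spec.map θ from hθ.symm]
    exact geometricallyIrreducible_specMap (k := K₁) ((G ⊗ T₁).left.residueField q)
  have : Flat (G ◁ s).left := MorphismProperty.of_isPullback (isPullback_whiskerLeft G s).flip hflat
  have : Flat (X ◁ s).left := MorphismProperty.of_isPullback (isPullback_whiskerLeft X s).flip hflat
  have huo : UniversallyOpen (G ◁ s).left := by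
    refine MorphismProperty.of_isPullback (isPullback_whiskerLeft G s).flip ?_
    rw [show s.left = Spec.map θ from hθ.symm]
    have : Subsingleton ↥(Spec (CommRingCat.of K₁)) := inferInstanceAs (Subsingleton (PrimeSpectrum K₁))
    exact inferInstanceAs (UniversallyOpen (Spec.map θ : _ ⟶ Spec (CommRingCat.of K₁)))
  let P : Set (G ⊗ T₂).left := (G ◁ s).left ⁻¹' closure {q}
  have hP : IsIrreducible P :=
    (G ◁ s).left.isIrreducible_preimage (G ◁ s).left.isOpenMap isIrreducible_singleton.closure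
  -- the rational point of `P` is translated to the unit
  obtain ⟨t₂⟩ : Nonempty (PrimeSpectrum ((G ⊗ T₁).left.residueField q)) := inferInstance
  let pc : T₂ ⟶ G ⊗ T₂ := lift c (𝟙 T₂)
  have hpc : pc.left t₂ ∈ P := by
    have e : pc ≫ (G ◁ s) = qq := by
      apply CartesianMonoidalCategory.hom_ext <;> simp [pc, c, s]
    show (G ◁ s).left (pc.left t₂) ∈ closure {q}
    rw [← Scheme.Hom.comp_apply, ← Over.comp_left, e]
    exact subset_closure (Scheme.fromSpecResidueField_apply q _)
  have hone : (fst G T₂).left ((tr c⁻¹).left (pc.left t₂)) = Component.one G := by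
    rw [← Scheme.Hom.comp_apply, ← Scheme.Hom.comp_apply, ← Over.comp_left, ← Over.comp_left]
    have e : pc ≫ tr c⁻¹ ≫ fst G T₂ = toUnit T₂ ≫ η[G] := by
      simp [pc, tr, MonObj.comp_mul, Hom.one_def]
    rw [e]
    exact congrArg η[G].left (Subsingleton.elim (α := PrimeSpectrum k) _ _)
  have himg : ∀ g ∈ P, (fst G T₂).left ((tr c⁻¹).left g) ∈ C₀ := by
    intro g hg
    obtain ⟨W, hW, hsub⟩ := exists_mem_irreducibleComponents_subset_of_isIrreducible _
      (hP.image (fun z => (fst G T₂).left ((tr c⁻¹).left z))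
        ((Scheme.Hom.continuous _).comp (Scheme.Hom.continuous _)).continuousOn)
    have := hsub ⟨pc.left t₂, hpc, rfl⟩
    simp only [hone] at this
    rw [← Component.uniqueComp G _ W hW C₀ hC₀ this (heC₀ rfl)]
    exact hsub ⟨g, hg, rfl⟩
  -- a maximal point over `η₁`
  have : Surjective (X ◁ s).left := by
    refine MorphismProperty.of_isPullback (isPullback_whiskerLeft X s).flip ?_
    rw [show s.left = Spec.map θ from hθ.symm]
    exact surjective_specMap (L := K₁) ((G ⊗ T₁).left.residueField q)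
  obtain ⟨v, hv⟩ := (X ◁ s).left.surjective η₁
  obtain ⟨η₂, hη₂, hη₂v⟩ := exists_isMaxPt_specializes v
  have hη₂₁ : (X ◁ s).left η₂ = η₁ := hη₁ _ (hv ▸ hη₂v.map (Scheme.Hom.continuous _))
  let sq := isPullback_orb_comp a s x
  obtain ⟨z, hz1, hz2⟩ := Scheme.Pullback.exists_preimage_pullback q η₂ (hq.trans hη₂₁.symm)
  let g₂ := sq.isoPullback.inv z
  have hg1 : (G ◁ s).left g₂ = q := by
    show (G ◁ s).left (sq.isoPullback.inv z) = q
    rw [← Scheme.Hom.comp_apply, sq.isoPullback_inv_fst]; exact hz1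
  have hg2 : (orb a (s ≫ x)).left g₂ = η₂ := by
    show (orb a (s ≫ x)).left (sq.isoPullback.inv z) = η₂
    rw [← Scheme.Hom.comp_apply, sq.isoPullback_inv_snd]; exact hz2
  -- translate
  have := isIso_act' a c⁻¹
  have : IsIso (act' a c⁻¹).left := inferInstanceAs (IsIso ((Over.forget _).map (act' a c⁻¹)))
  have hfX : Flat (fst X T₂).left := by
    have : Flat T₂.hom := flat_toSpecField _
    exact MorphismProperty.pullback_fst X.hom T₂.hom this
  have hmax : IsMaxPt ((fst X T₂).left ((act' a c⁻¹).left η₂)) := (hη₂.map _).map _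
  let h : (G ⊗ X).left := (tr c⁻¹ ≫ (G ◁ (s ≫ x))).left g₂
  have hh1 : (fst G X).left h ∈ C₀ := by
    simp only [h]
    rw [← Scheme.Hom.comp_apply, ← Over.comp_left, Category.assoc, whiskerLeft_fst]
    exact himg g₂ (show (G ◁ s).left g₂ ∈ closure {q} from hg1 ▸ subset_closure rfl)
  have hh2 : (snd G X).left h = p := by
    simp only [h]
    rw [← Scheme.Hom.comp_apply, ← Over.comp_left, Category.assoc, whiskerLeft_snd]
    simp only [Over.comp_left, Scheme.Hom.comp_apply]
    exact hx _
  have hh3 : a.act.left h = (fst X T₂).left ((act' a c⁻¹).left η₂) := by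
    have e : tr c⁻¹ ≫ (G ◁ (s ≫ x)) ≫ a.act = orb a (s ≫ x) ≫ act' a c⁻¹ ≫ fst X T₂ := by
      rw [← Category.assoc (orb a (s ≫ x)), ← tr_orb, Category.assoc]
      have e' : (G ◁ (s ≫ x)) ≫ a.act = orb a (s ≫ x) ≫ fst X T₂ := by
        rw [orb, lift_fst]
        congr 1
      simp only [s, Category.assoc] at e' ⊢
      rw [e']
    have := congrArg (fun f => f.left g₂) e
    simp only [Over.comp_left, Scheme.Hom.comp_apply] at this
    rw [hg2] at this
    simp only [h, Over.comp_left, Scheme.Hom.comp_apply]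
    exact this
  exact ⟨h, hh1, hh2, hh3 ▸ hmax⟩

/-- The component through the identity moves a maximal point inside its component. -/
theorem specializes_act {C₀ : Set G.left} (hC₀ : C₀ ∈ irreducibleComponents ↥G.left) (he : Component.one G ∈ C₀)
    {m : X.left} (hm : IsMaxPt m) (z : (G ⊗ X).left) (hz1 : (fst G X).left z ∈ C₀)
    (hz2 : (snd G X).left z = m) : m ⤳ a.act.left z := by
  let I := Scheme.IdealSheafData.vanishingIdeal ⟨C₀, isClosed_of_mem_irreducibleComponents _ hC₀⟩
  have hr : Set.range I.subschemeι = C₀ := by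
    simp [I, Scheme.IdealSheafData.range_subschemeι, Scheme.IdealSheafData.coe_support_vanishingIdeal,
      (isClosed_of_mem_irreducibleComponents _ hC₀).closure_eq]
  have hgi : GeometricallyIrreducible (I.subschemeι ≫ G.hom) :=
    Component.geometricallyIrreducible_component G I.subschemeι (hr ▸ hC₀) (hr ▸ he)
  let q := pullback.snd (I.subschemeι ≫ G.hom) X.hom
  have : GeometricallyIrreducible q := MorphismProperty.pullback_snd _ _ hgi
  have huo : UniversallyOpen q := MorphismProperty.pullback_snd _ _ inferInstance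
  let j : pullback (I.subschemeι ≫ G.hom) X.hom ⟶ pullback G.hom X.hom :=
    pullback.map _ _ G.hom X.hom I.subschemeι (𝟙 _) (𝟙 _) (Category.comp_id _)
      ((Category.comp_id _).trans (Category.id_comp _).symm)
  have hj : Set.range j = (fst G X).left ⁻¹' C₀ := by
    have h := Scheme.Pullback.range_map (I.subschemeι ≫ G.hom) X.hom G.hom X.hom I.subschemeι (𝟙 _) (𝟙 _)
      (Category.comp_id _) ((Category.comp_id _).trans (Category.id_comp _).symm)
    simpa [hr] using h
  have hjq : j ≫ (snd G X).left = q := by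
    show j ≫ pullback.snd G.hom X.hom = q
    exact (pullback.lift_snd _ _ _).trans (Category.comp_id _)
  let F : Set (G ⊗ X).left := j '' (q ⁻¹' {m})
  have hirr : IsIrreducible F :=
    (q.isIrreducible_preimage q.isOpenMap isIrreducible_singleton).image j j.continuous.continuousOn
  have hmem : ∀ w : (G ⊗ X).left, (fst G X).left w ∈ C₀ → (snd G X).left w = m → w ∈ F := fun w h1 h2 => by
    obtain ⟨w', rfl⟩ := hj.ge h1
    refine ⟨w', ?_, rfl⟩
    show q w' = m
    rw [← hjq]
    exact h2
  let o : X ⟶ G ⊗ X := lift (1 : X ⟶ G) (𝟙 X)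
  have ho : o.left m ∈ F := by
    refine hmem _ ?_ ?_
    · rw [← Scheme.Hom.comp_apply, ← Over.comp_left, lift_fst, Hom.one_def]
      simp only [Over.comp_left, Scheme.Hom.comp_apply]
      have e : (η[G]).left ((toUnit X).left m) = Component.one G :=
        congrArg η[G].left (Subsingleton.elim (α := PrimeSpectrum k) _ _)
      rw [e]; exact he
    · rw [← Scheme.Hom.comp_apply, ← Over.comp_left, lift_snd]
      rfl
  obtain ⟨W, hW, hsub⟩ := exists_mem_irreducibleComponents_subset_of_isIrreducible _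
    (hirr.image a.act.left a.act.left.continuous.continuousOn)
  have hmW : m ∈ W := by
    have := hsub ⟨_, ho, rfl⟩
    rwa [← Scheme.Hom.comp_apply, ← Over.comp_left, Homogeneous.one_smul] at this
  have hgen : hW.1.genericPoint = m :=
    hm _ ((hW.1.isGenericPoint_genericPoint (isClosed_of_mem_irreducibleComponents _ hW)).specializes hmW)
  have hg := hW.1.isGenericPoint_genericPoint (isClosed_of_mem_irreducibleComponents _ hW)
  rw [hgen] at hg
  exact hg.specializes (hsub ⟨z, hmem z hz1 hz2, rfl⟩)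

/-- The identity component moves every generalization to a specialization of the target. -/
theorem exists_lift {C₀ : Set G.left} (hC₀ : C₀ ∈ irreducibleComponents ↥G.left) (he : Component.one G ∈ C₀)
    {ξ : X.left} (hξ : IsMaxPt ξ) (h : (G ⊗ X).left) (h1 : (fst G X).left h ∈ C₀)
    (hs : ξ ⤳ (snd G X).left h) : ∃ y : X.left, ξ ⤳ y ∧ y ⤳ a.act.left h := by
  have : Flat G.hom := flat_toSpecField _
  have : Flat (snd G X).left := MorphismProperty.pullback_snd G.hom X.hom inferInstance
  obtain ⟨z, hz, hzξ⟩ := Flat.generalizingMap (snd G X).left hs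
  exact ⟨_, specializes_act a hC₀ he hξ z (Component.mem_of_specializes hC₀ h1 (hz.map (fst G X).left.continuous)) hzξ,
    hz.map a.act.left.continuous⟩

/-- The points all whose maximal generalizations lie in `U`. -/
def maxGenIn (U : X.left.Opens) : Set X.left := {p | ∀ ξ, IsMaxPt ξ → ξ ⤳ p → ξ ∈ U}

variable {C₀ : Set G.left}

theorem eq_act (hC₀ : C₀ ∈ irreducibleComponents ↥G.left) (he : Component.one G ∈ C₀) {p ξ : X.left}
    {h : (G ⊗ X).left} (hξ : IsMaxPt ξ) (hp : ξ ⤳ p) (h1 : (fst G X).left h ∈ C₀)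
    (h2 : (snd G X).left h = p) (hm : IsMaxPt (a.act.left h)) : ξ = a.act.left h := by
  obtain ⟨y, hy1, hy2⟩ := exists_lift a hC₀ he hξ h h1 (h2 ▸ hp)
  exact hm ξ (hy1.trans hy2)

include a in
theorem unique_gen (hΦ : Surjective (lift a.act (snd G X)).left) {p ξ ξ' : X.left} (hξ : IsMaxPt ξ)
    (hξ' : IsMaxPt ξ') (hp : ξ ⤳ p) (hp' : ξ' ⤳ p) : ξ = ξ' := by
  obtain ⟨C₀, hC₀, he'⟩ := exists_mem_irreducibleComponents_subset_of_isIrreducible
    {Component.one G} isIrreducible_singleton
  obtain ⟨h, h1, h2, hm⟩ := exists_act_isMaxPt a hΦ hC₀ (he' rfl) p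
  rw [eq_act a hC₀ (he' rfl) hξ hp h1 h2 hm, eq_act a hC₀ (he' rfl) hξ' hp' h1 h2 hm]

theorem maxGenIn_eq_image (hΦ : Surjective (lift a.act (snd G X)).left)
    (hC₀ : C₀ ∈ irreducibleComponents ↥G.left) (he : Component.one G ∈ C₀) (U : X.left.Opens) :
    maxGenIn U = (snd G X).left '' ((fst G X).left ⁻¹' C₀ ∩ a.act.left ⁻¹' (U : Set X.left)) := by
  ext p
  constructor
  · intro hp
    obtain ⟨h, h1, h2, hm⟩ := exists_act_isMaxPt a hΦ hC₀ he p
    obtain ⟨ξ, hξ, hξp⟩ := exists_isMaxPt_specializes p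
    exact ⟨h, ⟨h1, show a.act.left h ∈ U from eq_act a hC₀ he hξ hξp h1 h2 hm ▸ hp ξ hξ hξp⟩, h2⟩
  · rintro ⟨h, ⟨h1, h2⟩, rfl⟩ ξ hξ hξp
    obtain ⟨y, hy1, hy2⟩ := exists_lift a hC₀ he hξ h h1 hξp
    exact hy1.mem_open U.2 (hy2.mem_open U.2 h2)

include a in
theorem isOpen_maxGenIn (hΦ : Surjective (lift a.act (snd G X)).left) (U : X.left.Opens) :
    IsOpen (maxGenIn U) := by
  obtain ⟨C₀, hC₀, he'⟩ := exists_mem_irreducibleComponents_subset_of_isIrreducible
    {Component.one G} isIrreducible_singleton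
  have e := maxGenIn_eq_image a hΦ hC₀ (he' rfl) U
  let I := Scheme.IdealSheafData.vanishingIdeal ⟨C₀, isClosed_of_mem_irreducibleComponents _ hC₀⟩
  have hr : Set.range I.subschemeι = C₀ := by
    simp [I, Scheme.IdealSheafData.range_subschemeι, Scheme.IdealSheafData.coe_support_vanishingIdeal,
      (isClosed_of_mem_irreducibleComponents _ hC₀).closure_eq]
  let q := pullback.snd (I.subschemeι ≫ G.hom) X.hom
  have huo : UniversallyOpen q := MorphismProperty.pullback_snd _ _ inferInstance
  let j : pullback (I.subschemeι ≫ G.hom) X.hom ⟶ pullback G.hom X.hom :=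
    pullback.map _ _ G.hom X.hom I.subschemeι (𝟙 _) (𝟙 _) (Category.comp_id _)
      ((Category.comp_id _).trans (Category.id_comp _).symm)
  have hj : Set.range j = (fst G X).left ⁻¹' C₀ := by
    have h := Scheme.Pullback.range_map (I.subschemeι ≫ G.hom) X.hom G.hom X.hom I.subschemeι (𝟙 _) (𝟙 _)
      (Category.comp_id _) ((Category.comp_id _).trans (Category.id_comp _).symm)
    simpa [hr] using h
  have hjq : j ≫ (snd G X).left = q := by
    show j ≫ pullback.snd G.hom X.hom = q
    exact (pullback.lift_snd _ _ _).trans (Category.comp_id _)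
  rw [e, ← hj, ← Set.image_preimage_eq_range_inter, Set.image_image]
  have : (fun z => (snd G X).left (j z)) = (q : _ → X.left) := by
    funext z
    rw [← hjq]
    rfl
  rw [this]
  exact q.isOpenMap _ ((U.2.preimage a.act.left.continuous).preimage j.continuous)

include a in
theorem maxGenIn_eq_closure (hΦ : Surjective (lift a.act (snd G X)).left) (U : X.left.Opens)
    [QuasiCompact (Scheme.Opens.ι U)] : maxGenIn U = closure (U : Set X.left) := by
    ext p
    constructor
    · intro hp
      obtain ⟨ρ, hρ, hρp⟩ := exists_isMaxPt_specializes p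
      exact (closure_mono (Set.singleton_subset_iff.2 (hp ρ hρ hρp))) hρp.mem_closure
    · intro hp ρ hρ hρp
      obtain ⟨u, hu⟩ := Groth.L19.exists_specializes_of_mem_closure_range (Scheme.Opens.ι U)
        (by rwa [Scheme.Opens.range_ι])
      obtain ⟨μ', hμ, hμu⟩ := exists_isMaxPt_specializes (Scheme.Opens.ι U u)
      rw [unique_gen a hΦ hρ hμ hρp (hμu.trans hu)]
      exact hμu.mem_open U.2 u.2

theorem isPreirreducible_connectedComponent (hΦ : Surjective (lift a.act (snd G X)).left)
    [QuasiSeparatedSpace X.left] (x : X.left) : IsPreirreducible (connectedComponent x) := by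
  obtain ⟨ξ, hξ, hξx⟩ := exists_isMaxPt_specializes x
  suffices hcc : connectedComponent x = closure {ξ} by
    rw [hcc]; exact isIrreducible_singleton.closure.isPreirreducible
  refine subset_antisymm (fun y hy => ?_)
    ((isIrreducible_singleton.closure : IsIrreducible (closure ({ξ} : Set X.left))).isConnected.isPreconnected.subset_connectedComponent hξx.mem_closure)
  obtain ⟨ξ', hξ', hξy⟩ := exists_isMaxPt_specializes y
  by_contra hne
  have hne' : ξ ≠ ξ' := fun e => hne (by rw [e]; exact hξy.mem_closure)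
  obtain ⟨_, ⟨U, hU, rfl⟩, hξU, hUs⟩ := X.left.isBasis_affineOpens.exists_subset_of_mem_open
    (show ξ ∈ (closure ({ξ'} : Set X.left))ᶜ from fun h => hne' (hξ _ (specializes_iff_mem_closure.2 h)).symm)
    isClosed_closure.isOpen_compl
  have : IsAffine (U : Scheme.{u}) := hU
  have : QuasiCompact (Scheme.Opens.ι U) := quasiCompact_of_compactSpace _
  have hV := maxGenIn_eq_closure a hΦ U
  have hclopen : IsClopen (maxGenIn U) := ⟨hV ▸ isClosed_closure, isOpen_maxGenIn a hΦ U⟩
  have hxV : x ∈ maxGenIn U := fun ρ hρ hρx => by rw [unique_gen a hΦ hρ hξ hρx hξx]; exact hξU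
  exact hUs (hclopen.connectedComponent_subset hxV hy ξ' hξ' hξy) (subset_closure rfl)

/-- The involution `(g, x) ↦ (g⁻¹, g • x)` exchanges the action and the projection. -/
theorem exists_swap {C₀ : Set G.left} (hC₀ : C₀ ∈ irreducibleComponents ↥G.left) (he : Component.one G ∈ C₀)
    (h : (G ⊗ X).left) (h1 : (fst G X).left h ∈ C₀) :
    ∃ w : (G ⊗ X).left, (fst G X).left w ∈ C₀ ∧ (snd G X).left w = a.act.left h ∧
      a.act.left w = (snd G X).left h := by
  let τ : G ⊗ X ⟶ G ⊗ X := lift (fst G X)⁻¹ a.act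
  have hτ : τ ≫ a.act = snd G X := by
    have := mul_smul a (fst G X)⁻¹ (fst G X) (snd G X)
    rw [inv_mul_cancel, Homogeneous.one_smul, lift_fst_snd, Category.id_comp] at this
    exact this.symm
  let invG : G.left ⟶ G.left := (GrpObj.inv : G ⟶ G).left
  have hinv : ∀ g, invG (invG g) = g := fun g => by
    have e : (GrpObj.inv : G ⟶ G) ≫ GrpObj.inv = 𝟙 G := by
      have h0 : (GrpObj.inv : G ⟶ G) = (𝟙 G)⁻¹ := by rw [Hom.inv_def, Category.id_comp]
      rw [← Hom.inv_def, h0, _root_.inv_inv]
    exact congrArg (fun f => f.left g) e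
  have hinv1 : invG (Component.one G) = Component.one G := by
    have e : η[G] ≫ (GrpObj.inv : G ⟶ G) = η[G] := by simp
    exact congrArg (fun f => f.left (IsLocalRing.closedPoint k)) e
  refine ⟨τ.left h, ?_, ?_, ?_⟩
  · have h2 : (fst G X).left (τ.left h) = invG ((fst G X).left h) := by
      show _ = (GrpObj.inv : G ⟶ G).left ((fst G X).left h)
      rw [← Scheme.Hom.comp_apply, ← Scheme.Hom.comp_apply, ← Over.comp_left, ← Over.comp_left, lift_fst]
      simp [Hom.inv_def]
    rw [h2]
    obtain ⟨W, hW, hsub⟩ := exists_mem_irreducibleComponents_subset_of_isIrreducible _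
      (hC₀.1.image invG invG.continuous.continuousOn)
    rw [← Component.eq_of_mem hW hC₀ (hsub ⟨_, he, hinv1⟩) he]
    exact hsub ⟨_, h1, rfl⟩
  · rw [← Scheme.Hom.comp_apply, ← Over.comp_left, lift_snd]
  · rw [← Scheme.Hom.comp_apply, ← Over.comp_left, hτ]

theorem image_act_eq (hΦ : Surjective (lift a.act (snd G X)).left) {C₀ : Set G.left}
    (hC₀ : C₀ ∈ irreducibleComponents ↥G.left) (he : Component.one G ∈ C₀) (U : X.left.Opens) :
    a.act.left '' {z : (G ⊗ X).left | (fst G X).left z ∈ C₀ ∧ (snd G X).left z ∈ U} = maxGenIn U := by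
  rw [maxGenIn_eq_image a hΦ hC₀ he U]
  ext p
  constructor
  · rintro ⟨z, ⟨h1, h2⟩, rfl⟩
    obtain ⟨w, w1, w2, w3⟩ := exists_swap a hC₀ he z h1
    exact ⟨w, ⟨w1, show a.act.left w ∈ U from w3 ▸ h2⟩, w2⟩
  · rintro ⟨z, ⟨h1, h2⟩, rfl⟩
    obtain ⟨w, w1, w2, w3⟩ := exists_swap a hC₀ he z h1
    exact ⟨w, ⟨w1, show (snd G X).left w ∈ U from w2 ▸ h2⟩, w3⟩

theorem neutral_mul_open (hΦ : Surjective (lift a.act (snd G X)).left) {C₀ : Set G.left}
    (hC₀ : C₀ ∈ irreducibleComponents ↥G.left) (he : Component.one G ∈ C₀) (U : X.left.Opens) :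
    IsOpen (maxGenIn U) ∧
      maxGenIn U = ⋃₀ {Z : Set X.left | Z ∈ irreducibleComponents ↥X.left ∧ ∃ ξ ∈ U, closure {ξ} = Z} ∧
      (IsRetrocompact (U : Set X.left) → maxGenIn U = closure (U : Set X.left)) := by
  refine ⟨isOpen_maxGenIn a hΦ U, ?_, fun hU => ?_⟩
  · ext p
    constructor
    · intro hp
      have hT := irreducibleComponent_mem_irreducibleComponents p
      have hg := hT.1.isGenericPoint_genericPoint (isClosed_of_mem_irreducibleComponents _ hT)
      exact ⟨_, ⟨hT, _, hp _ (isMaxPt_genericPoint _ hT) (hg.specializes mem_irreducibleComponent), hg⟩,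
        mem_irreducibleComponent⟩
    · rintro ⟨Z, ⟨hZ, ξ, hξU, rfl⟩, hpZ⟩ ρ hρ hρp
      have hg := hZ.1.isGenericPoint_genericPoint (isClosed_of_mem_irreducibleComponents _ hZ)
      have e : hZ.1.genericPoint = ξ :=
        hg.eq (show IsGenericPoint ξ (closure {ξ}) from rfl)
      rw [unique_gen a hΦ hρ (e ▸ isMaxPt_genericPoint _ hZ) hρp (specializes_iff_mem_closure.2 hpZ)]
      exact hξU
  · have : QuasiCompact (Scheme.Opens.ι U) :=
      quasiCompact_iff_isSpectralMap.2 (IsRetrocompact_iff_isSpectralMap_subtypeVal.1 hU)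
    exact maxGenIn_eq_closure a hΦ U

end Groth.L16.HomogComp
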